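import Mathlib.LinearAlgebra.QuadraticForm.Basis
import Mathlib.FieldTheory.ChevalleyWarning
import Mathlib.LinearAlgebra.FiniteDimensional.Lemmas
import Mathlib.FieldTheory.Finite.Basic
import Mathlib.RingTheory.MvPolynomial.Homogeneous

/-! # Counting the zeros of a quadratic form over a finite field -/

set_option autoImplicit false
set_option linter.style.haveILetI false
universe u v

open QuadraticMap Module

noncomputable section

namespace Groth.Agent.QuadPts24

variable {k : Type u} [Field k] [Fintype k]

/-- The only zero in the radical of the polar form is zero. -/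
def ND {V : Type v} [AddCommGroup V] [Module k V] (f : QuadraticForm k V) : Prop :=
  ∀ x, (∀ y, polar f x y = 0) → f x = 0 → x = 0

/-- There is a totally singular subspace of dimension `e`. -/
def TS {V : Type v} [AddCommGroup V] [Module k V] (f : QuadraticForm k V) (e : ℕ) : Prop :=
  ∃ W : Submodule k V, finrank k W = e ∧ ∀ w ∈ W, f w = 0

open MvPolynomial in
theorem exists_isotropic {V : Type v} [AddCommGroup V] [Module k V] [FiniteDimensional k V]
    (f : QuadraticForm k V) (h : 2 < finrank k V) : ∃ v, v ≠ 0 ∧ f v = 0 := by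
  classical
  let b := Module.finBasis k V
  let B := QuadraticMap.toBilin f b
  let P : MvPolynomial (Fin (finrank k V)) k :=
    ∑ i, ∑ j, C (B (b i) (b j)) * (MvPolynomial.X i * MvPolynomial.X j)
  have hP : ∀ x, MvPolynomial.eval x P = f (∑ i, x i • b i) := by
    intro x
    conv_rhs => rw [← QuadraticMap.toQuadraticMap_toBilin f b]
    simp only [P, LinearMap.BilinMap.toQuadraticMap_apply, map_sum, map_smul, LinearMap.sum_apply,
      LinearMap.smul_apply, smul_eq_mul, map_mul, eval_C, eval_X, Finset.mul_sum]
    rw [Finset.sum_comm]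
    exact Finset.sum_congr rfl fun i _ => Finset.sum_congr rfl fun j _ => by ring
  have hdeg : P.totalDegree < Fintype.card (Fin (finrank k V)) := by
    rw [Fintype.card_fin]
    refine lt_of_le_of_lt ?_ h
    refine MvPolynomial.IsHomogeneous.totalDegree_le (IsHomogeneous.sum _ _ _ fun i _ => IsHomogeneous.sum _ _ _ fun j _ => ?_)
    exact (((isHomogeneous_X k i).mul (isHomogeneous_X k j)).C_mul _)
  by_contra! hc
  obtain ⟨p, hp⟩ := CharP.exists k
  haveI : Fact p.Prime := ⟨CharP.char_is_prime k p⟩
  have hdvd := char_dvd_card_solutions p hdeg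
  have h1 : Fintype.card { x : Fin (finrank k V) → k // MvPolynomial.eval x P = 0 } = 1 := by
    refine Fintype.card_eq_one_iff.2 ⟨⟨0, by rw [hP]; simp⟩, fun x => Subtype.ext (funext fun i => ?_)⟩
    have h0 : ∑ i, x.1 i • b i = 0 := by
      by_contra hne
      exact hc _ hne ((hP _).symm.trans x.2)
    exact Fintype.linearIndependent_iff.1 b.linearIndependent _ h0 i
  rw [h1] at hdvd
  exact (Fact.out : p.Prime).one_lt.ne' (Nat.dvd_one.1 hdvd)

theorem card_mul_eq (c : k) [DecidableEq k] :
    Nat.card { p : k × k // p.1 * p.2 = c } =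
      if c = 0 then Fintype.card k + (Fintype.card k - 1) else Fintype.card k - 1 := by
  rw [← Fintype.card_units, ← Nat.card_eq_fintype_card (α := kˣ)]
  split_ifs with hc
  · subst hc
    rw [← Nat.card_eq_fintype_card (α := k), ← Nat.card_sum]
    refine (Nat.card_eq_of_bijective
      (Sum.elim (fun b : k => (⟨(0, b), zero_mul b⟩ : { p : k × k // p.1 * p.2 = 0 }))
        (fun a : kˣ => ⟨((a : k), 0), mul_zero _⟩)) ⟨?_, ?_⟩).symm
    · rintro (b | a) (b' | a') h <;> simp only [Sum.elim_inl, Sum.elim_inr, Subtype.mk.injEq, Prod.mk.injEq] at h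
      · rw [h.2]
      · exact absurd h.1.symm a'.ne_zero
      · exact absurd h.1 a.ne_zero
      · rw [Units.ext h.1]
    · rintro ⟨⟨a, b⟩, h⟩
      by_cases ha : a = 0
      · exact ⟨.inl b, Subtype.ext (Prod.ext ha.symm rfl)⟩
      · exact ⟨.inr (Units.mk0 a ha), Subtype.ext (Prod.ext rfl ((mul_eq_zero.1 h).resolve_left ha).symm)⟩
  · refine (Nat.card_eq_of_bijective
      (fun a : kˣ => (⟨((a : k), (↑a⁻¹ : k) * c), by simp⟩ : { p : k × k // p.1 * p.2 = c })) ⟨?_, ?_⟩).symm
    · intro a a' h
      exact Units.ext (congrArg (fun p => p.1.1) h)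
    · rintro ⟨⟨a, b⟩, h⟩
      have ha : a ≠ 0 := fun e => hc (by rw [← h, e, zero_mul])
      refine ⟨Units.mk0 a ha, Subtype.ext (Prod.ext rfl ?_)⟩
      simp only at h
      simp [← h, ha]

/-- The number of zeros. -/
def Claim {V : Type v} [AddCommGroup V] [Module k V] (f : QuadraticForm k V) (d : ℕ) : Prop :=
  (Odd d → (Nat.card { x // f x = 0 } : ℤ) = (Fintype.card k : ℤ) ^ (d - 1)) ∧
  ∀ e, d = 2 * (e + 1) →
    (TS f (e + 1) → (Nat.card { x // f x = 0 } : ℤ) = (Fintype.card k : ℤ) ^ (2 * e + 1) +
      ((Fintype.card k : ℤ) ^ (e + 1) - (Fintype.card k : ℤ) ^ e)) ∧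
    (¬ TS f (e + 1) → (Nat.card { x // f x = 0 } : ℤ) = (Fintype.card k : ℤ) ^ (2 * e + 1) -
      ((Fintype.card k : ℤ) ^ (e + 1) - (Fintype.card k : ℤ) ^ e))

theorem exists_le_finrank {V : Type v} [AddCommGroup V] [Module k V] (W : Submodule k V) {e : ℕ}
    (h : e ≤ finrank k W) : ∃ W' ≤ W, finrank k W' = e := by
  classical
  obtain ⟨s, hli⟩ := exists_linearIndependent_of_le_finrank (R := k) (M := W) h
  refine ⟨(Submodule.span k (Set.range s)).map W.subtype, Submodule.map_subtype_le _ _, ?_⟩
  rw [Submodule.finrank_map_subtype_eq, finrank_span_eq_card hli, Fintype.card_fin]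

theorem count : ∀ (d : ℕ) (V : Type v) [AddCommGroup V] [Module k V] [FiniteDimensional k V]
    (f : QuadraticForm k V), finrank k V = d → ND f → Claim f d := by
  classical
  intro d
  induction d using Nat.strong_induction_on with
  | h d IH =>
  intro V _ _ _ f hd hnd
  set q : ℤ := (Fintype.card k : ℤ) with hq
  by_cases hiso : ∃ v, v ≠ 0 ∧ f v = 0
  swap
  · push Not at hiso
    have hle : d ≤ 2 := by
      by_contra h
      obtain ⟨v, hv, h0⟩ := exists_isotropic f (by omega)
      exact hiso v hv h0
    have h1 : Nat.card { x // f x = 0 } = 1 := by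
      refine Nat.card_eq_one_iff_unique.2 ⟨⟨fun a b => Subtype.ext ?_⟩, ⟨⟨0, map_zero f⟩⟩⟩
      have z : ∀ a : { x // f x = 0 }, a.1 = 0 := fun a => by
        by_contra h
        exact hiso a.1 h a.2
      rw [z a, z b]
    refine ⟨fun hod => ?_, fun e he => ?_⟩
    · obtain ⟨r, rfl⟩ := hod
      obtain rfl : r = 0 := by omega
      simp [h1]
    · obtain rfl : e = 0 := by omega
      refine ⟨fun ⟨W, hW, hW0⟩ => ?_, fun _ => by simp [h1]⟩
      have hWb : W = ⊥ := (Submodule.eq_bot_iff W).2 fun w hw => by
        by_contra h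
        exact hiso w h (hW0 w hw)
      rw [hWb, finrank_bot] at hW
      omega
  obtain ⟨v, hv, hfv⟩ := hiso
  obtain ⟨w₀, hw₀⟩ : ∃ y, polar f v y ≠ 0 := by
    by_contra! hc
    exact hv (hnd v hc hfv)
  obtain ⟨w₁, hvw₁⟩ : ∃ w₁, polar f v w₁ = 1 :=
    ⟨(polar f v w₀)⁻¹ • w₀, by rw [polar_smul_right, smul_eq_mul, inv_mul_cancel₀ hw₀]⟩
  let w := w₁ - f w₁ • v
  have hvv : polar f v v = 0 := by rw [polar_self, hfv, smul_zero]
  have hvw : polar f v w = 1 := by
    show polar f v (w₁ - f w₁ • v) = 1
    rw [polar_sub_right, polar_smul_right (Q := f) (f w₁), hvv, smul_zero, sub_zero, hvw₁]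
  have hfw : f w = 0 := by
    show f (w₁ - f w₁ • v) = 0
    rw [sub_eq_add_neg, ← neg_smul, QuadraticMap.map_add (⇑f), QuadraticMap.map_smul, hfv, polar_smul_right,
      polar_comm, hvw₁]
    simp
  have hww : polar f w w = 0 := by rw [polar_self, hfw, smul_zero]
  have hwv : polar f w v = 1 := by rw [polar_comm, hvw]
  let B := f.polarBilin
  let V' : Submodule k V := LinearMap.ker (B v) ⊓ LinearMap.ker (B w)
  have hV' : ∀ x ∈ V', polar f v x = 0 ∧ polar f w x = 0 := fun x hx => hx
  let Φ : (k × k × V') →ₗ[k] V :=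
    (LinearMap.toSpanSingleton k V v).coprod ((LinearMap.toSpanSingleton k V w).coprod V'.subtype)
  have hΦ : ∀ a b (x : V'), Φ (a, b, x) = a • v + (b • w + (x : V)) := fun a b x => rfl
  have hbij : Function.Bijective Φ := by
    constructor
    · rw [← LinearMap.ker_eq_bot, Submodule.eq_bot_iff]
      rintro ⟨a, b, x⟩ h
      rw [LinearMap.mem_ker, hΦ] at h
      obtain ⟨hxv, hxw⟩ := hV' x x.2
      have hb : b = 0 := by
        have := congrArg (polar f v) h
        simpa [polar_add_right, polar_smul_right, hvv, hvw, hxv] using this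
      have ha : a = 0 := by
        have := congrArg (polar f w) h
        simpa [polar_add_right, polar_smul_right, hww, hwv, hxw] using this
      rw [ha, hb, zero_smul, zero_smul, zero_add, zero_add] at h
      rw [ha, hb, Submodule.coe_eq_zero.1 h]
      rfl
    · intro y
      refine ⟨(polar f w y, polar f v y, ⟨y - polar f w y • v - polar f v y • w, ?_, ?_⟩), ?_⟩
      · show polar f v _ = 0
        rw [polar_sub_right, polar_sub_right, polar_smul_right, polar_smul_right, hvv, hvw]
        simp
      · show polar f w _ = 0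
        rw [polar_sub_right, polar_sub_right, polar_smul_right, polar_smul_right, hww, hwv]
        simp
      · rw [hΦ]
        simp only
        abel
  let E := LinearEquiv.ofBijective Φ hbij
  have hdV : d = finrank k V' + 2 := by
    rw [← hd, ← E.finrank_eq, finrank_prod, finrank_prod, finrank_self]
    omega
  have hf : ∀ a b (x : V'), f (Φ (a, b, x)) = a * b + f (x : V) := by
    intro a b x
    obtain ⟨hxv, hxw⟩ := hV' x x.2
    rw [hΦ, QuadraticMap.map_add (⇑f) (a • v), QuadraticMap.map_add (⇑f) (b • w), QuadraticMap.map_smul, QuadraticMap.map_smul,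
      hfv, hfw, polar_add_right, polar_smul_left, polar_smul_left, polar_smul_left, polar_smul_right, hvw, hxv, hxw]
    simp only [smul_eq_mul]
    ring
  let f' : QuadraticForm k V' := f.comp V'.subtype
  have hf' : ∀ x : V', f' x = f (x : V) := fun x => rfl
  have hnd' : ND f' := by
    intro x hx hx0
    refine Subtype.ext (hnd (x : V) (fun y => ?_) hx0)
    obtain ⟨⟨a, b, z⟩, rfl⟩ := hbij.surjective y
    obtain ⟨hxv, hxw⟩ := hV' x x.2
    have hz : polar f (x : V) (z : V) = 0 := hx z
    rw [hΦ, polar_add_right, polar_add_right, polar_smul_right, polar_smul_right, polar_comm f (x : V) v,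
      polar_comm f (x : V) w, hxv, hxw, hz]
    simp
  have ih := IH (finrank k V') (by omega) V' f' rfl hnd'
  haveI : Finite V := Module.finite_of_finite k
  haveI := Fintype.ofFinite V
  set N' := Nat.card { x : V' // f' x = 0 } with hN'
  have hN : (Nat.card { x // f x = 0 } : ℤ) = q * N' + (q - 1) * q ^ finrank k V' := by
    have e1 : { x // f x = 0 } ≃ Σ x : V', { p : k × k // p.1 * p.2 = - f' x } :=
      (E.toEquiv.subtypeEquiv (p := fun t : k × k × V' => f (Φ t) = 0) (fun t => Iff.rfl)).symm.trans
        { toFun := fun t => ⟨t.1.2.2, (t.1.1, t.1.2.1), eq_neg_of_add_eq_zero_left ((hf _ _ _).symm.trans t.2)⟩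
          invFun := fun s => ⟨(s.2.1.1, s.2.1.2, s.1), by rw [hf, s.2.2, hf', neg_add_cancel]⟩
          left_inv := fun _ => rfl
          right_inv := fun _ => rfl }
    rw [Nat.card_congr e1, Nat.card_sigma]
    simp only [card_mul_eq, neg_eq_zero]
    rw [Finset.sum_ite, Finset.sum_const, Finset.sum_const, smul_eq_mul, smul_eq_mul]
    have hc1 : (Finset.univ.filter fun x : V' => f' x = 0).card = N' := by
      rw [hN', Nat.card_eq_fintype_card, Fintype.card_subtype]
    have hc2 := Finset.card_filter_add_card_filter_not (s := (Finset.univ : Finset V')) (fun x => f' x = 0)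
    rw [Finset.card_univ, card_eq_pow_finrank (K := k) (V := V'), hc1] at hc2
    have hc3 : ((Finset.univ.filter fun x : V' => ¬ f' x = 0).card : ℤ) = q ^ finrank k V' - N' := by
      rw [hq, ← Nat.cast_pow, ← hc2]
      push_cast
      ring
    rw [hc1]
    push_cast [Nat.cast_sub (Fintype.card_pos (α := k))]
    rw [hc3]
    ring
  have hTS : ∀ e, TS f (e + 1) ↔ TS f' e := by
    intro e
    constructor
    · rintro ⟨W, hW, hW0⟩
      let P : V →ₗ[k] V' := ((LinearMap.snd k k V').comp (LinearMap.snd k k (k × V'))).comp E.symm.toLinearMap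
      let U := W ⊓ LinearMap.ker (B v)
      have hUd : ∀ y ∈ U, ∃ a : k, y = a • v + (P y : V) ∧ f' (P y) = 0 := by
        rintro y ⟨hyW, hyv⟩
        obtain ⟨⟨a, b, z⟩, rfl⟩ := hbij.surjective y
        have hP : P (Φ (a, b, z)) = z := by
          show ((E.symm (E (a, b, z))).2.2) = z
          rw [E.symm_apply_apply]
        have hb : b = 0 := by
          have h1 : polar f v (Φ (a, b, z)) = 0 := hyv
          simpa [hΦ, polar_add_right, polar_smul_right, hvv, hvw, (hV' z z.2).1] using h1
        subst hb
        refine ⟨a, by rw [hP, hΦ, zero_smul, zero_add], ?_⟩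
        have := hW0 _ hyW
        rw [hf, mul_zero, zero_add] at this
        rw [hP]; exact this
      have hrk : e ≤ finrank k (U.map P) := by
        have h2 := LinearMap.finrank_range_add_finrank_ker (P.domRestrict U)
        rw [LinearMap.range_domRestrict] at h2
        by_cases hvW : v ∈ W
        · have hUW : U = W := inf_eq_left.2 fun y hy => by
            show polar f v y = 0
            rw [polar, hW0 _ (add_mem hvW hy), hfv, hW0 _ hy]
            simp
          have hk : finrank k (LinearMap.ker (P.domRestrict U)) ≤ 1 := by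
            refine finrank_le_one (⟨⟨v, hUW.symm ▸ hvW⟩, ?_⟩ : LinearMap.ker (P.domRestrict U)) fun y => ?_
            · show P v = 0
              have e' : Φ (1, 0, 0) = v := by rw [hΦ]; simp
              show ((E.symm v).2.2) = 0
              rw [← e', show Φ (1, 0, 0) = E (1, 0, 0) from rfl, E.symm_apply_apply]
            · obtain ⟨a, ha, -⟩ := hUd y.1.1 y.1.2
              refine ⟨a, Subtype.ext (Subtype.ext ?_)⟩
              rw [ha, show P y.1.1 = 0 from y.2]
              simp
          have : finrank k U = e + 1 := by rw [hUW, hW]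
          omega
        · have hk : LinearMap.ker (P.domRestrict U) = ⊥ := by
            refine (Submodule.eq_bot_iff _).2 fun y hy => Subtype.ext ?_
            obtain ⟨a, ha, -⟩ := hUd y.1 y.2
            rw [show P y.1 = 0 from hy, Submodule.coe_zero, add_zero] at ha
            rcases eq_or_ne a 0 with rfl | ha0
            · rw [ha, zero_smul]; rfl
            · exact absurd ((W.smul_mem_iff ha0).1 (ha ▸ y.2.1)) hvW
          have hU : e ≤ finrank k U := by
            have h3 := LinearMap.finrank_range_add_finrank_ker ((B v).domRestrict W)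
            have h4 : finrank k (LinearMap.range ((B v).domRestrict W)) ≤ 1 :=
              (Submodule.finrank_le _).trans (finrank_self k).le
            have h5 : finrank k (LinearMap.ker ((B v).domRestrict W)) = finrank k U :=
              (Submodule.equivMapOfInjective W.subtype W.injective_subtype _).finrank_eq.trans (by
                congr 2 <;> rw [LinearMap.ker_domRestrict, Submodule.map_comap_subtype])
            omega
          rw [hk, finrank_bot] at h2
          omega
      obtain ⟨W', hle, hW'⟩ := exists_le_finrank (U.map P) hrk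
      refine ⟨W', hW', fun z hz => ?_⟩
      obtain ⟨y, hy, rfl⟩ := hle hz
      exact (hUd y hy).choose_spec.2
    · rintro ⟨W, hW, hW0⟩
      let Ψ : (k × W) →ₗ[k] V := (LinearMap.toSpanSingleton k V v).coprod (V'.subtype.comp W.subtype)
      have hΨ : ∀ a (x : W), Ψ (a, x) = Φ (a, 0, x.1) := fun a x => by
        rw [hΦ, zero_smul, zero_add]; rfl
      have hinj : Function.Injective Ψ := by
        rintro ⟨a, x⟩ ⟨a', x'⟩ h
        rw [hΨ, hΨ] at h
        have := hbij.injective h
        simp only [Prod.mk.injEq, true_and] at this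
        exact Prod.ext this.1 (Subtype.ext this.2)
      refine ⟨LinearMap.range Ψ, ?_, ?_⟩
      · rw [LinearMap.finrank_range_of_inj hinj, finrank_prod, finrank_self, hW, add_comm]
      · rintro _ ⟨⟨a, x⟩, rfl⟩
        rw [hΨ, hf, mul_zero, zero_add]
        exact hW0 x.1 x.2
  refine ⟨fun hod => ?_, fun e he => ?_⟩
  · obtain ⟨r, hr⟩ := hod
    obtain ⟨r, rfl⟩ : ∃ s, r = s + 1 := ⟨r - 1, by omega⟩
    have hd' : finrank k V' = 2 * r + 1 := by omega
    have hI := ih.1 ⟨r, hd'⟩
    rw [← hN', hd', Nat.add_sub_cancel] at hI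
    rw [hN, hI, hd', hr]
    rw [show 2 * (r + 1) + 1 - 1 = 2 * r + 1 + 1 by omega]
    ring
  · cases e with
    | zero =>
      have hd' : finrank k V' = 0 := by omega
      haveI : Subsingleton V' := finrank_zero_iff.1 hd'
      have h1 : N' = 1 := Nat.card_eq_one_iff_unique.2 ⟨inferInstance, ⟨⟨0, map_zero f'⟩⟩⟩
      refine ⟨fun _ => ?_, fun h => absurd ((hTS 0).2 ⟨⊥, finrank_bot k V', fun z hz => ?_⟩) h⟩
      · rw [hN, h1, hd']; push_cast; ring
      · rw [(Submodule.mem_bot k).1 hz, map_zero]
    | succ e =>
      have hd' : finrank k V' = 2 * (e + 1) := by omega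
      obtain ⟨h1, h2⟩ := ih.2 e hd'
      rw [← hN'] at h1 h2
      constructor
      · intro h
        rw [hN, h1 ((hTS _).1 h), hd']
        ring
      · intro h
        rw [hN, h2 (fun h' => h ((hTS _).2 h')), hd']
        ring

end Groth.Agent.QuadPts24
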