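import Groth.Agent.Lib.LefPen13.QuadDef
import Groth.Prelude.Def_SgaExt

/-! # Rational points of a hypersurface of projective space over a field -/

set_option autoImplicit false
set_option linter.style.haveILetI false
set_option backward.isDefEq.respectTransparency false
set_option backward.isDefEq.respectTransparency.types false

universe u

open CategoryTheory CategoryTheory.Limits AlgebraicGeometry TopologicalSpace MvPolynomial

noncomputable section

namespace Groth.Agent.QuadPts24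

open Groth.Agent.LefPen13

section Alg

variable {k : Type u} [Field k] {A : Type u} [CommRing A] [Algebra k A]

/-- The equation of a hypersurface smooth of codimension one lies in the square of no rational point. -/
theorem notMem_sq [Algebra.Smooth k A] {n : ℕ} (hn : 1 ≤ n)
    (hA : RingHom.Locally (RingHom.IsStandardSmoothOfRelativeDimension n) (algebraMap k A)) (h : A)
    (hQ : RingHom.Locally (RingHom.IsStandardSmoothOfRelativeDimension (n - 1))
      (algebraMap k (A ⧸ Ideal.span {h}))) (χ : A →ₐ[k] k) : h ∉ RingHom.ker χ ^ 2 := by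
  haveI : IsNoetherianRing A := Algebra.FiniteType.isNoetherianRing k A
  let Q := A ⧸ Ideal.span {h}
  have hdimA : ∀ χ : A →ₐ[k] k, ∀ [(RingHom.ker χ).IsPrime],
      ringKrullDim (Localization.AtPrime (RingHom.ker χ)) = n := by
    intro χ _
    rw [IsLocalization.AtPrime.ringKrullDim_eq_height (RingHom.ker χ), height_ker_eq hA χ]
    rfl
  intro hsq
  haveI hmax : (RingHom.ker χ).IsMaximal := RingHom.ker_isMaximal_of_surjective χ.toRingHom
    fun a => ⟨algebraMap k A a, χ.commutes a⟩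
  have hhM : h ∈ RingHom.ker χ := Ideal.pow_le_self two_ne_zero hsq
  let χQ : Q →ₐ[k] k := Ideal.Quotient.liftₐ _ χ (fun a ha => by
    obtain ⟨b, rfl⟩ := Ideal.mem_span_singleton'.1 ha
    rw [map_mul, show χ h = 0 from hhM, mul_zero])
  obtain ⟨m, hm, hcomap, ⟨E⟩⟩ := quot_atPrime h (RingHom.ker χ) hhM
  have hmm : RingHom.ker χQ = m := Ideal.comap_injective_of_surjective _ Ideal.Quotient.mk_surjective (by
    rw [hcomap]
    ext a
    rfl)
  have h1 := height_ker_eq hQ χQ
  rw [hmm] at h1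
  haveI : IsRegularLocalRing (Localization.AtPrime m) := by
    refine SmoothReg17.isRegularLocalRing_of_smooth (algebraMap k Q) ?_ _
    refine RingHom.smooth_iff_locally_isStandardSmooth.2 ?_
    exact RingHom.locally_of_locally (fun hf => hf.isStandardSmooth) hQ
  set Ap := Localization.AtPrime (RingHom.ker χ)
  haveI : IsRegularLocalRing Ap :=
    SmoothReg17.isRegularLocalRing_of_smooth (algebraMap k A) (RingHom.smooth_algebraMap.2 inferInstance) _
  haveI : IsRegularLocalRing (Ap ⧸ Ideal.span {algebraMap A Ap h}) := IsRegularLocalRing.of_ringEquiv E.symm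
  have h2 : (IsLocalRing.maximalIdeal (Ap ⧸ Ideal.span {algebraMap A Ap h})).spanFinrank = n - 1 := by
    have h3 : ringKrullDim (Ap ⧸ Ideal.span {algebraMap A Ap h}) = ((n - 1 : ℕ) : ℕ) := by
      rw [ringKrullDim_eq_of_ringEquiv E, IsLocalization.AtPrime.ringKrullDim_eq_height m, h1]
      rfl
    rw [← IsRegularLocalRing.spanFinrank_maximalIdeal] at h3
    exact_mod_cast h3
  have h4 : (IsLocalRing.maximalIdeal Ap).spanFinrank = n := by
    have := hdimA χ
    rw [← IsRegularLocalRing.spanFinrank_maximalIdeal] at this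
    exact_mod_cast this
  let π := Ideal.Quotient.mk (Ideal.span {algebraMap A Ap h})
  have hfg := IsNoetherian.noetherian (IsLocalRing.maximalIdeal (Ap ⧸ Ideal.span {algebraMap A Ap h}))
  let T := Submodule.generators (IsLocalRing.maximalIdeal (Ap ⧸ Ideal.span {algebraMap A Ap h}))
  have hTfin : T.Finite := Submodule.FG.finite_generators hfg
  have hTcard : T.ncard = n - 1 := (Submodule.FG.generators_ncard hfg).trans h2
  choose l hl using fun t : Ap ⧸ Ideal.span {algebraMap A Ap h} => Ideal.Quotient.mk_surjective t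
  have hsq' : algebraMap A Ap h ∈ IsLocalRing.maximalIdeal Ap ^ 2 := by
    rw [← Localization.AtPrime.map_eq_maximalIdeal, ← Ideal.map_pow]
    exact Ideal.mem_map_of_mem _ hsq
  have hmem : ∀ t ∈ T, l t ∈ IsLocalRing.maximalIdeal Ap := by
    intro t ht
    by_contra hc
    have hu : IsUnit (π (l t)) := (IsLocalRing.notMem_maximalIdeal.1 hc).map π
    rw [show π (l t) = t from hl t] at hu
    exact (IsLocalRing.maximalIdeal.isMaximal _).ne_top (Ideal.eq_top_of_isUnit_mem _
      (Submodule.span_generators (IsLocalRing.maximalIdeal (Ap ⧸ Ideal.span {algebraMap A Ap h})) ▸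
        Submodule.subset_span ht) hu)
  have hle : IsLocalRing.maximalIdeal Ap ≤
      Ideal.span (l '' T) ⊔ IsLocalRing.maximalIdeal Ap ^ 2 := by
    intro a ha
    have hb : π a ∈ IsLocalRing.maximalIdeal (Ap ⧸ Ideal.span {algebraMap A Ap h}) := by
      rw [RegLoc.maximalIdeal_quotient]
      exact Ideal.mem_map_of_mem _ ha
    have hT : (Ideal.span (l '' T)).map π = IsLocalRing.maximalIdeal (Ap ⧸ Ideal.span {algebraMap A Ap h}) := by
      rw [Ideal.map_span, ← Set.image_comp]
      rw [show (π ∘ l) '' T = T by simp [π, hl]]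
      exact Submodule.span_generators _
    rw [← hT, ← Ideal.mem_comap, Ideal.comap_map_of_surjective _ Ideal.Quotient.mk_surjective,
      ← RingHom.ker_eq_comap_bot, Ideal.mk_ker] at hb
    obtain ⟨b, hb', e, he, rfl⟩ := Submodule.mem_sup.1 hb
    exact add_mem (Submodule.mem_sup_left hb')
      (Submodule.mem_sup_right ((Ideal.span_singleton_le_iff_mem _).2 hsq' he))
  have hspan : IsLocalRing.maximalIdeal Ap ≤ Ideal.span (l '' T) :=
    Submodule.le_of_le_smul_of_le_jacobson_bot (IsNoetherian.noetherian _)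
      (IsLocalRing.jacobson_eq_maximalIdeal (⊥ : Ideal Ap) bot_ne_top).ge (by rwa [smul_eq_mul, ← pow_two])
  have heq : IsLocalRing.maximalIdeal Ap = Ideal.span (l '' T) :=
    le_antisymm hspan (Ideal.span_le.2 (by rintro _ ⟨t, ht, rfl⟩; exact hmem t ht))
  have : (IsLocalRing.maximalIdeal Ap).spanFinrank ≤ n - 1 := by
    rw [heq]
    exact (Submodule.spanFinrank_span_le_ncard_of_finite (hTfin.image l)).trans
      ((Set.ncard_image_le hTfin).trans hTcard.le)
  omega

end Alg

variable {k : Type u} [Field k] {m : ℕ} (Q : LefPen.Form m k 2)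

local notation "𝕚" => 𝟙 (CohB1.ProjSpace m k)

/-- A smooth hypersurface of codimension one has no rational singular point. -/
theorem eval_eq_zero_imp (hm : 1 ≤ m)
    [SmoothOfRelativeDimension (m - 1) ((LefPen.hypIdeal Q).subschemeι ≫ CohB1.ProjSpace.toSpec m k)]
    (v : Fin (m + 1) → k) (hv : v ≠ 0) (h0 : MvPolynomial.eval v Q.1 = 0) :
    ∃ l, MvPolynomial.eval v (pderiv l Q.1) ≠ 0 := by
  by_contra! hc
  obtain ⟨j, χ, hχ⟩ := (singular_id_iff Q).2 ⟨v, hv, h0, hc⟩
  haveI := smoothOfRelativeDimension_id (k := k) (m := m)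
  haveI : Smooth (𝕚 ≫ CohB1.ProjSpace.toSpec m k) := SmoothOfRelativeDimension.smooth m _
  haveI := smooth 𝕚 j
  haveI : IsZariskiLocalAtSource (@SmoothOfRelativeDimension (m - 1)) :=
    HasRingHomProperty.instIsZariskiLocalAtSource (P := @SmoothOfRelativeDimension (m - 1))
      (Q := RingHom.Locally (RingHom.IsStandardSmoothOfRelativeDimension (m - 1)))
  have hs : SmoothOfRelativeDimension (m - 1) (LefPen.secToSpec 𝕚 ({Q} : Set (LefPen.Form m k 2))) := by
    have key : ∀ {I J : (CohB1.ProjSpace m k).IdealSheafData}, I = J →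
        SmoothOfRelativeDimension (m - 1) (J.subschemeι ≫ CohB1.ProjSpace.toSpec m k) →
        SmoothOfRelativeDimension (m - 1) (I.subschemeι ≫ 𝕚 ≫ CohB1.ProjSpace.toSpec m k) := by
      intro I J e h; subst e; rwa [Category.id_comp]
    exact key (secIdeal_id Q) inferInstance
  have h : SmoothOfRelativeDimension (m - 1)
      (secChart 𝕚 Q j ≫ LefPen.secToSpec 𝕚 ({Q} : Set (LefPen.Form m k 2))) :=
    IsZariskiLocalAtSource.comp (P := @SmoothOfRelativeDimension (m - 1)) hs _
  rw [secChart_toSpec, HasRingHomProperty.Spec_iff (P := @SmoothOfRelativeDimension (m - 1))] at h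
  exact notMem_sq hm (locally_std 𝕚 m j) _ h χ hχ

/-- The rational points of the hypersurface. -/
abbrev Pts : Type u :=
  { g : Spec (CommRingCat.of k) ⟶ LefPen.Sec 𝕚 ({Q} : Set (LefPen.Form m k 2)) //
    g ≫ LefPen.secToSpec 𝕚 ({Q} : Set (LefPen.Form m k 2)) = Spec.map (CommRingCat.ofHom (algebraMap k k)) }

/-- The nonzero zeros of the form. -/
abbrev Zs : Type u := { v : Fin (m + 1) → k // v ≠ 0 ∧ MvPolynomial.eval v Q.1 = 0 }

/-- The rational point of a chart. -/
def mkPt (j : Fin (m + 1)) (χ : A 𝕚 j →ₐ[k] k) (hχ : χ (π 𝕚 j Q.1) = 0) : Pts Q :=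
  ⟨Spec.map (CommRingCat.ofHom (quotPt (π 𝕚 j Q.1) χ hχ).toRingHom) ≫ secChart 𝕚 Q j, by
    rw [Category.assoc, secChart_toSpec, ← Spec.map_comp, ← CommRingCat.ofHom_comp]
    congr 2
    exact RingHom.ext fun c => (quotPt (π 𝕚 j Q.1) χ hχ).commutes c⟩

theorem mkPt_apply (j : Fin (m + 1)) (χ : A 𝕚 j →ₐ[k] k) (hχ : χ (π 𝕚 j Q.1) = 0) :
    (mkPt Q j χ hχ).1 (IsLocalRing.closedPoint k) = secP 𝕚 Q j χ hχ := by
  show secChart 𝕚 Q j _ = secChart 𝕚 Q j _
  congr 1
  exact PrimeSpectrum.ext (Ideal.ext fun a => by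
    show _ ∈ IsLocalRing.maximalIdeal k ↔ _
    rw [IsLocalRing.maximalIdeal_eq_bot, Ideal.mem_bot]
    rfl)

theorem exists_eq_mkPt (j : Fin (m + 1)) (g : Pts Q)
    (hg : g.1 (IsLocalRing.closedPoint k) ∈ Set.range (secChart 𝕚 Q j)) :
    ∃ (χ : A 𝕚 j →ₐ[k] k) (hχ : χ (π 𝕚 j Q.1) = 0), g = mkPt Q j χ hχ := by
  have hr : Set.range g.1 ⊆ Set.range (secChart 𝕚 Q j) := by
    rintro _ ⟨x, rfl⟩
    rwa [Subsingleton.elim (α := Spec (CommRingCat.of k)) x (IsLocalRing.closedPoint k)]
  obtain ⟨φ, hφ⟩ := Spec.map_surjective (IsOpenImmersion.lift (secChart 𝕚 Q j) g.1 hr)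
  have hfac := IsOpenImmersion.lift_fac (secChart 𝕚 Q j) g.1 hr
  rw [← hφ] at hfac
  have hc : CommRingCat.ofHom (algebraMap k (QR 𝕚 Q j)) ≫ φ = CommRingCat.ofHom (algebraMap k k) := by
    apply Spec.map_injective
    rw [Spec.map_comp, ← secChart_toSpec, ← Category.assoc, hfac]
    exact g.2
  let ψ : QR 𝕚 Q j →ₐ[k] k :=
    { φ.hom with commutes' := fun c => congrArg (fun t => t.hom c) hc }
  have hχ : (ψ.comp (Ideal.Quotient.mkₐ k _)) (π 𝕚 j Q.1) = 0 := by
    show ψ (Ideal.Quotient.mk _ _) = 0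
    rw [Ideal.Quotient.eq_zero_iff_mem.2 (Ideal.mem_span_singleton_self _), map_zero]
  refine ⟨ψ.comp (Ideal.Quotient.mkₐ k _), hχ, Subtype.ext (hfac.symm.trans ?_)⟩
  show Spec.map φ ≫ _ = Spec.map _ ≫ _
  congr 2
  ext b
  rfl

/-- A rational point is determined by the point of the scheme. -/
theorem pt_unique (j : Fin (m + 1)) (χ : A 𝕚 j →ₐ[k] k) (hχ : χ (π 𝕚 j Q.1) = 0) (g : Pts Q)
    (hg : g.1 (IsLocalRing.closedPoint k) = secP 𝕚 Q j χ hχ) : g = mkPt Q j χ hχ := by
  obtain ⟨χ', hχ', rfl⟩ := exists_eq_mkPt Q j g ⟨_, hg.symm⟩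
  rw [mkPt_apply] at hg
  have e : qPt 𝕚 Q j χ' hχ' = qPt 𝕚 Q j χ hχ :=
    (secChart 𝕚 Q j).isOpenEmbedding.injective hg
  have : χ' = χ := by
    refine algHom_ext_of_ker (Ideal.ext fun a => ?_)
    have := congrArg (fun q : PrimeSpectrum (QR 𝕚 Q j) => Ideal.Quotient.mk _ a ∈ q.asIdeal) e
    exact iff_of_eq this
  subst this
  rfl

variable {Q}

/-- A chosen chart point with prescribed coordinates. -/
def chi (v : Zs Q) : Σ' (j : Fin (m + 1)) (χ : A 𝕚 j →ₐ[k] k),
    v.1 j ≠ 0 ∧ coords 𝕚 j χ = fun l => (v.1 j)⁻¹ * v.1 l :=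
  ⟨(Function.ne_iff.1 v.2.1).choose,
    (exists_pt_id _ (fun l => (v.1 (Function.ne_iff.1 v.2.1).choose)⁻¹ * v.1 l)
      (inv_mul_cancel₀ (Function.ne_iff.1 v.2.1).choose_spec)).choose,
    (Function.ne_iff.1 v.2.1).choose_spec,
    (exists_pt_id _ (fun l => (v.1 (Function.ne_iff.1 v.2.1).choose)⁻¹ * v.1 l)
      (inv_mul_cancel₀ (Function.ne_iff.1 v.2.1).choose_spec)).choose_spec⟩

theorem chi_zero (v : Zs Q) : (chi v).2.1 (π 𝕚 (chi v).1 Q.1) = 0 := by
  rw [χ_π, (chi v).2.2.2, eval_smul_vec ((mem_homogeneousSubmodule _ _).1 Q.2), v.2.2, mul_zero]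

/-- The point of a zero. -/
def toPt (v : Zs Q) : Pts Q := mkPt Q (chi v).1 (chi v).2.1 (chi_zero v)

theorem toPt_eq_iff (v w : Zs Q) : toPt v = toPt w ↔ ∃ c : kˣ, w.1 = fun l => (c : k) * v.1 l := by
  constructor
  · intro h
    have h1 := congrArg (fun g : Pts Q => g.1 (IsLocalRing.closedPoint k)) h
    simp only [toPt, mkPt_apply] at h1
    obtain ⟨hne, he⟩ := SamePt.coords_eq _ ((secP_eq_iff 𝕚 Q _ _ _ _).1 h1.symm)
    have hw := (chi w).2.2.1
    have hv := (chi v).2.2.1
    rw [(chi w).2.2.2] at hne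
    simp only [(chi w).2.2.2, (chi v).2.2.2] at he
    refine ⟨Units.mk0 (w.1 (chi v).1 * (v.1 (chi v).1)⁻¹) (mul_ne_zero (right_ne_zero_of_mul hne) (inv_ne_zero hv)),
      funext fun l => ?_⟩
    have := he l
    field_simp at this
    simp only [Units.val_mk0]
    field_simp
    linear_combination this
  · rintro ⟨c, hc⟩
    refine (pt_unique Q _ _ (chi_zero w) _ ?_)
    show (toPt v).1 (IsLocalRing.closedPoint k) = _
    rw [toPt, mkPt_apply, secP_eq_iff]
    intro a b
    rw [(chi v).2.2.2, (chi w).2.2.2]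
    simp only [congrFun hc a, congrFun hc b]
    ring

theorem toPt_surjective : Function.Surjective (toPt (Q := Q)) := by
  intro g
  obtain ⟨j, hj⟩ := Opens.mem_iSup.1 ((iSup_V 𝕚).ge
    (trivial : LefPen.secι 𝕚 ({Q} : Set (LefPen.Form m k 2)) (g.1 (IsLocalRing.closedPoint k)) ∈
      (⊤ : (CohB1.ProjSpace m k).Opens)))
  obtain ⟨χ, hχ, rfl⟩ := exists_eq_mkPt Q j g (by rw [range_secChart]; exact hj)
  let v : Zs Q := ⟨coords 𝕚 j χ, fun e => by
      have := congrFun e j
      rw [coords_self] at this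
      exact one_ne_zero this, by rw [← χ_π]; exact hχ⟩
  refine ⟨v, (pt_unique Q j χ hχ _ ?_)⟩
  show (toPt v).1 (IsLocalRing.closedPoint k) = _
  rw [toPt, mkPt_apply, secP_eq_iff]
  intro a b
  rw [(chi v).2.2.2]
  ring

variable (Q)

/-- The nonzero zeros are the rational points times the units. -/
theorem card_zs : Nat.card (Zs Q) = Nat.card (Pts Q) * Nat.card kˣ := by
  let s := Function.surjInv (toPt_surjective (Q := Q))
  have hs : ∀ P, toPt (s P) = P := Function.surjInv_eq toPt_surjective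
  let F : Pts Q × kˣ → Zs Q := fun P => ⟨fun l => (P.2 : k) * (s P.1).1 l, fun e => (s P.1).2.1 (funext fun l =>
      (mul_eq_zero.1 (congrFun e l)).resolve_left P.2.ne_zero), by
    rw [eval_smul_vec ((mem_homogeneousSubmodule _ _).1 Q.2), (s P.1).2.2, mul_zero]⟩
  rw [← Nat.card_prod]
  refine (Nat.card_eq_of_bijective F ⟨?_, fun v => ?_⟩).symm
  · rintro ⟨P, c⟩ ⟨P', c'⟩ h
    have hP : toPt (F (P, c)) = P := (((toPt_eq_iff (s P) (F (P, c))).2 ⟨c, rfl⟩).symm).trans (hs P)
    have hP' : toPt (F (P', c')) = P' := (((toPt_eq_iff (s P') (F (P', c'))).2 ⟨c', rfl⟩).symm).trans (hs P')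
    obtain rfl : P = P' := hP.symm.trans ((congrArg toPt h).trans hP')
    obtain ⟨l, hl⟩ := Function.ne_iff.1 (s P).2.1
    exact Prod.ext rfl (Units.ext (mul_right_cancel₀ hl (congrFun (congrArg Subtype.val h) l)))
  · obtain ⟨c, hc⟩ := (toPt_eq_iff (s (toPt v)) v).1 (hs (toPt v))
    exact ⟨(toPt v, c), Subtype.ext hc.symm⟩

theorem card_pts :
    Nat.card (Pts Q) = SgaExt.pointCount ((LefPen.hypIdeal Q).subschemeι ≫ CohB1.ProjSpace.toSpec m k) k := by
  have key : ∀ {I J : (CohB1.ProjSpace m k).IdealSheafData}, I = J →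
      SgaExt.pointCount (I.subschemeι ≫ 𝕚 ≫ CohB1.ProjSpace.toSpec m k) k =
        SgaExt.pointCount (J.subschemeι ≫ CohB1.ProjSpace.toSpec m k) k := by
    intro I J e; subst e; rw [Category.id_comp]
  exact key (secIdeal_id Q)

end Groth.Agent.QuadPts24
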